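import Mathlib

/-!
Evaluating power series at elements of the maximal ideal of a complete local ring, and ideals close
to a given divisor.
-/

set_option autoImplicit false

universe u

open IsLocalRing

namespace Groth.Agent.Misc12.NodeRetract

/-- Evaluation of power series. -/
theorem exists_eval {A : Type u} [CommRing A] [IsLocalRing A] [IsAdicComplete (maximalIdeal A) A] {n : ℕ}
    (t : Fin n → A) (ht : ∀ i, t i ∈ maximalIdeal A) :
    ∃ e : MvPowerSeries (Fin n) A →+* A, (∀ r, e (MvPowerSeries.C r) = r) ∧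
      ∀ i, e (MvPowerSeries.X i) = t i := by
  let m := maximalIdeal A
  let m₀ := MvPolynomial.idealOfVars (Fin n) A
  let ev : MvPolynomial (Fin n) A →ₐ[A] A := MvPolynomial.aeval t
  have hev : ∀ j, m₀ ^ j ≤ (m ^ j).comap ev := fun j => by
    rw [← Ideal.map_le_iff_le_comap, Ideal.map_pow]
    refine Ideal.pow_right_mono ?_ j
    rw [Ideal.map_le_iff_le_comap]
    refine Ideal.span_le.2 (Set.range_subset_iff.2 fun i => ?_)
    show ev (MvPolynomial.X i) ∈ m
    rw [MvPolynomial.aeval_X]; exact ht i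
  let f : ∀ j, MvPowerSeries (Fin n) A →+* A ⧸ m ^ j := fun j =>
    (Ideal.quotientMap (m ^ j) ev.toRingHom (hev j)).comp
      (MvPowerSeries.truncTotalAlgHom (Fin n) A j).toRingHom
  have hfv : ∀ j p, f j p = Ideal.Quotient.mk (m ^ j) (ev (MvPowerSeries.truncTotal j p)) := fun j p => rfl
  have hf : ∀ {i j : ℕ} (h : i ≤ j), (Ideal.Quotient.factorPow m h).comp (f j) = f i := by
    intro i j h
    refine RingHom.ext fun p => ?_
    show Ideal.Quotient.factorPow m h (f j p) = f i p
    rw [hfv, hfv]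
    show Ideal.Quotient.mk _ _ = _
    rw [Ideal.Quotient.eq, ← map_sub]
    exact hev i (MvPowerSeries.truncTotal_sub_truncTotal_mem_pow_idealOfVars h le_rfl p)
  let e := IsAdicComplete.liftRingHom m f hf
  have key : ∀ (p : MvPolynomial (Fin n) A), e (p : MvPowerSeries (Fin n) A) = ev p := fun p => by
    rw [← sub_eq_zero]
    refine (inferInstance : IsHausdorff m A).haus _ fun j => ?_
    rw [SModEq.zero, smul_eq_mul, Ideal.mul_top, ← Ideal.Quotient.eq, IsAdicComplete.mk_liftRingHom, hfv,
      Ideal.Quotient.eq, ← map_sub]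
    refine hev j ((MvPolynomial.mem_pow_idealOfVars_iff' j _).mpr fun d hd => ?_)
    rw [MvPolynomial.coeff_sub, MvPowerSeries.coeff_truncTotal _ hd, MvPolynomial.coeff_coe, sub_self]
  refine ⟨e, fun r => ?_, fun i => ?_⟩
  · rw [← MvPolynomial.coe_C, key]
    exact MvPolynomial.aeval_C t r
  · rw [← MvPolynomial.coe_X, key]
    exact MvPolynomial.aeval_X t i

theorem mem_of_forall_mem_sup_pow {A : Type u} [CommRing A] [IsLocalRing A] [IsNoetherianRing A]
    (I : Ideal A) {x : A} (h : ∀ N, x ∈ I ⊔ maximalIdeal A ^ N) : x ∈ I := by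
  have h1 := Ideal.iInf_pow_smul_eq_bot_of_le_jacobson (M := A ⧸ I) (maximalIdeal A)
    (IsLocalRing.maximalIdeal_le_jacobson _)
  have h2 : Ideal.Quotient.mk I x ∈ (⨅ i : ℕ, maximalIdeal A ^ i • ⊤ : Submodule A (A ⧸ I)) := by
    refine (Submodule.mem_iInf _).mpr fun N => ?_
    obtain ⟨u, hu, v, hv, e⟩ := Submodule.mem_sup.mp (h N)
    rw [← e, map_add, Ideal.Quotient.eq_zero_iff_mem.mpr hu, zero_add,
      show Ideal.Quotient.mk I v = v • (1 : A ⧸ I) by rw [Algebra.smul_def, mul_one]; rfl]
    exact Submodule.smul_mem_smul hv trivial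
  rw [h1, Submodule.mem_bot] at h2
  exact Ideal.Quotient.eq_zero_iff_mem.mp h2

theorem finite_span_divisors {A : Type u} [CommRing A] [IsDomain A] [UniqueFactorizationMonoid A]
    {Δ : A} (hΔ : Δ ≠ 0) : {I : Ideal A | ∃ d, d ∣ Δ ∧ Ideal.span {d} = I}.Finite := by
  classical
  let := UniqueFactorizationMonoid.normalizationMonoid (α := A)
  refine ((UniqueFactorizationMonoid.normalizedFactors Δ).powerset.toFinset.finite_toSet.image
    fun s => Ideal.span {s.prod}).subset ?_
  rintro _ ⟨d, hd, rfl⟩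
  have hd0 : d ≠ 0 := fun h => hΔ (by rwa [h, zero_dvd_iff] at hd)
  refine ⟨UniqueFactorizationMonoid.normalizedFactors d, ?_, ?_⟩
  · simp only [Finset.mem_coe, Multiset.mem_toFinset, Multiset.mem_powerset]
    exact (UniqueFactorizationMonoid.dvd_iff_normalizedFactors_le_normalizedFactors hd0 hΔ).1 hd
  · exact Ideal.span_singleton_eq_span_singleton.2 (UniqueFactorizationMonoid.prod_normalizedFactors hd0)

/-- A divisor close to a divisor generates the same ideal. -/
theorem exists_close_span_eq {A : Type u} [CommRing A] [IsLocalRing A] [IsNoetherianRing A] [IsDomain A]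
    [UniqueFactorizationMonoid A] {Δ : A} (hΔ : Δ ≠ 0) (t : A) :
    ∃ N : ℕ, ∀ a, a ∣ Δ → a - t ∈ maximalIdeal A ^ N → Ideal.span {a} = Ideal.span {t} := by
  classical
  let S := (finite_span_divisors hΔ).toFinset.filter fun I => I ≠ Ideal.span {t}
  have key : ∀ I ∈ S, ∃ N, ∀ a, Ideal.span {a} = I → a - t ∉ maximalIdeal A ^ N := by
    intro I hI
    by_contra hcon
    push Not at hcon
    choose a ha hat using hcon
    refine (Finset.mem_filter.1 hI).2 (le_antisymm ?_ ?_)
    · intro x hx
      refine mem_of_forall_mem_sup_pow _ fun N => ?_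
      rw [← ha N, Ideal.mem_span_singleton'] at hx
      obtain ⟨c, rfl⟩ := hx
      rw [show c * a N = c * t + c * (a N - t) by ring]
      exact Submodule.add_mem_sup (Ideal.mem_span_singleton'.2 ⟨c, rfl⟩) (Ideal.mul_mem_left _ _ (hat N))
    · rw [Ideal.span_le, Set.singleton_subset_iff]
      refine mem_of_forall_mem_sup_pow _ fun N => ?_
      rw [show t = a N + -(a N - t) by ring]
      exact Submodule.add_mem_sup (ha N ▸ Ideal.mem_span_singleton_self _) (neg_mem (hat N))
  choose! N hN using key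
  refine ⟨S.sup N, fun a ha hat => ?_⟩
  by_contra hne
  have hmem : Ideal.span {a} ∈ S :=
    Finset.mem_filter.2 ⟨(finite_span_divisors hΔ).mem_toFinset.2 ⟨a, ha, rfl⟩, hne⟩
  exact hN _ hmem a rfl (Ideal.pow_le_pow_right (Finset.le_sup hmem) hat)

end Groth.Agent.Misc12.NodeRetract
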