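import Groth.Agent.Misc12.NodeRetract.Eval
import Groth.Agent.Misc12.EtNbhdApprox.CplMap
import Groth.Agent.Misc12.HensIso.OrdCone
import Groth.Agent.Calg1.Popescu.Approximation
import Groth.Agent.S0600
import Groth.Prelude.Def_EGA4b

/-!
Retractions realizing the factorization of a node.
-/

set_option autoImplicit false

universe u

open IsLocalRing

namespace Groth.Agent.Misc12.NodeRetract

open EtNbhdApprox (Cpl ev_algebraMap ev_eq_zero_iff algebraMap_mem exists_ev_eq map_pow_le)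

/-- Maps to the completion are approximated by maps to the ring. -/
theorem exists_approx_algHom {R : Type u} [CommRing R] [HenselianLocalRing R] [IsNoetherianRing R]
    (hG : CAlg.IsGRing R) {C : Type u} [CommRing C] [IsLocalRing C] [Algebra R C]
    [Algebra.EssFiniteType R C] (g₀ : C →ₐ[R] Cpl R) [IsLocalHom g₀.toRingHom] {N : ℕ} (hN : 1 ≤ N) :
    ∃ g : C →ₐ[R] R, (∀ c ∈ maximalIdeal C, g c ∈ maximalIdeal R) ∧
      ∀ c, algebraMap R (Cpl R) (g c) - g₀ c ∈ maximalIdeal (Cpl R) ^ N := by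
  have : IsNoetherianRing (Cpl R) := Groth.Agent.S0543.result R (maximalIdeal R)
  obtain ⟨S, Q, _, _, _⟩ := HensIso.exists_isLocalization_atPrime R C
  obtain ⟨n, q, hq, hker⟩ := (Algebra.FinitePresentation.of_finiteType.1 ‹Algebra.FiniteType R S›).out
  obtain ⟨m, F, hF⟩ := Submodule.fg_iff_exists_fin_generating_family.1 hker
  have hFq : ∀ j, q (F j) = 0 := fun j => by
    have : F j ∈ RingHom.ker q.toRingHom := hF.le (Submodule.subset_span ⟨j, rfl⟩)
    exact this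
  let g₀S : S →ₐ[R] Cpl R := g₀.comp S.val
  let a : Fin n → Cpl R := fun i => g₀S (q (MvPolynomial.X i))
  have ha' : g₀S.comp q = MvPolynomial.aeval a := MvPolynomial.algHom_ext fun i => by simp [a]
  obtain ⟨b, hb, hab⟩ := Groth.Calg1.Popescu.exists_approx (maximalIdeal R)
    (Groth.Agent.S0600.result R hG (maximalIdeal R)) F a (fun j => by
      rw [← ha', AlgHom.comp_apply, hFq, map_zero]) N
  have hle : RingHom.ker q.toRingHom ≤ RingHom.ker (MvPolynomial.aeval b).toRingHom := by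
    rw [← hF]
    exact Submodule.span_le.2 (by rintro _ ⟨j, rfl⟩; exact hb j)
  let g₁ : S →ₐ[R] R := AlgHom.liftOfSurjective q hq (MvPolynomial.aeval b) hle
  have hg₁ : ∀ p, g₁ (q p) = MvPolynomial.aeval b p := AlgHom.liftOfSurjective_apply q hq _ hle
  have hclose : ∀ s, algebraMap R (Cpl R) (g₁ s) - g₀S s ∈ maximalIdeal (Cpl R) ^ N := by
    intro s
    obtain ⟨p, rfl⟩ := hq s
    rw [hg₁, ← AlgHom.comp_apply, ha', ← Ideal.Quotient.eq,
      show algebraMap R (Cpl R) (MvPolynomial.aeval b p) =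
        MvPolynomial.aeval (fun i => algebraMap R (Cpl R) (b i)) p from
          (MvPolynomial.aeval_algebraMap_apply (B := Cpl R) b p).symm]
    show Ideal.Quotient.mkₐ R (maximalIdeal (Cpl R) ^ N) _ = Ideal.Quotient.mkₐ R (maximalIdeal (Cpl R) ^ N) _
    rw [← AlgHom.comp_apply, ← AlgHom.comp_apply]
    refine DFunLike.congr_fun (MvPolynomial.algHom_ext fun i => ?_) p
    simp only [AlgHom.comp_apply, MvPolynomial.aeval_X]
    refine (Ideal.Quotient.eq.2 ?_).symm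
    rw [AdicCompletion.maximalIdeal_eq_map, ← Ideal.map_pow]
    exact hab i
  have hu : ∀ s : Q.primeCompl, IsUnit (g₁ (s : S)) := fun s => by
    by_contra h0
    have h1 : algebraMap R (Cpl R) (g₁ (s : S)) ∈ maximalIdeal (Cpl R) :=
      algebraMap_mem ((mem_maximalIdeal _).2 h0)
    have h2 := Ideal.sub_mem _ h1 (Ideal.pow_le_self (by omega) (hclose (s : S)))
    rw [sub_sub_cancel] at h2
    exact (mem_maximalIdeal _).1 h2 ((IsLocalization.map_units C s).map g₀)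
  let g : C →ₐ[R] R := IsLocalization.liftAlgHom (M := Q.primeCompl) (f := g₁) hu
  have hgS : ∀ s : S, g (algebraMap S C s) = g₁ s := IsLocalization.lift_eq hu
  have hg : ∀ c, algebraMap R (Cpl R) (g c) - g₀ c ∈ maximalIdeal (Cpl R) ^ N := by
    intro c
    obtain ⟨⟨x, s⟩, hx⟩ := IsLocalization.surj Q.primeCompl c
    refine (Ideal.mul_unit_mem_iff_mem _ (((hu s).map (algebraMap R (Cpl R))))).1 ?_
    have e1 : algebraMap R (Cpl R) (g c) * algebraMap R (Cpl R) (g₁ (s : S)) = algebraMap R (Cpl R) (g₁ x) := by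
      rw [← map_mul, ← hgS, ← hgS, ← map_mul, hx]
    have e2 : g₀ c * g₀S (s : S) = g₀S x := by
      show g₀ c * g₀ (algebraMap S C (s : S)) = g₀ (algebraMap S C x)
      rw [← map_mul, hx]
    have e3 : (algebraMap R (Cpl R) (g c) - g₀ c) * algebraMap R (Cpl R) (g₁ (s : S)) =
        (algebraMap R (Cpl R) (g₁ x) - g₀S x) -
          g₀ c * (algebraMap R (Cpl R) (g₁ (s : S)) - g₀S (s : S)) := by
      linear_combination e1 - e2
    rw [e3]
    exact sub_mem (hclose x) (Ideal.mul_mem_left _ _ (hclose s))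
  refine ⟨g, fun c hc => ?_, hg⟩
  by_contra h0
  have h1 : g₀ c ∈ maximalIdeal (Cpl R) := by
    rw [mem_maximalIdeal, mem_nonunits_iff] at hc ⊢
    exact fun hu => hc (IsLocalHom.map_nonunit (f := g₀.toRingHom) c hu)
  have h2 := Ideal.add_mem _ (Ideal.pow_le_self (by omega) (hg c)) h1
  rw [sub_add_cancel] at h2
  exact (mem_maximalIdeal _).1 h2 ((notMem_maximalIdeal.1 h0).map _)

open MvPowerSeries in
/-- The retraction. -/
theorem exists_retraction
    (R : Type u) [CommRing R] [HenselianLocalRing R] (hR : EGA4.IsExcellent R) [IsNoetherianRing R]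
    [IsDomain (Cpl R)] [UniqueFactorizationMonoid (Cpl R)]
    (Δ t₁ t₂ : R) (hΔ : Δ ≠ 0) (ht₁ : t₁ ∈ maximalIdeal R) (ht₂ : t₂ ∈ maximalIdeal R) (ht : t₁ * t₂ = Δ)
    (C : Type u) [CommRing C] [IsLocalRing C] [Algebra R C] [IsLocalHom (algebraMap R C)]
    [Algebra.EssFiniteType R C]
    (ψ : Cpl C ≃+*
      (MvPowerSeries (Fin 2) (Cpl R) ⧸
        Ideal.span {(X 0 * X 1 - MvPowerSeries.C (algebraMap R (Cpl R) Δ) : MvPowerSeries (Fin 2) (Cpl R))}))
    (hψ : ψ.toRingHom.comp ((algebraMap C (Cpl C)).comp (algebraMap R C)) =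
      (Ideal.Quotient.mk _).comp ((MvPowerSeries.C : Cpl R →+* MvPowerSeries (Fin 2) (Cpl R)).comp
          (algebraMap R (Cpl R)))) :
    ∃ (g : C →ₐ[R] R) (ĝ : Cpl C →+* Cpl R),
      ĝ.comp (algebraMap C (Cpl C)) = (algebraMap R (Cpl R)).comp g.toRingHom ∧
      Ideal.span {ĝ (ψ.symm (Ideal.Quotient.mk _ (X 0)))} = Ideal.span {algebraMap R (Cpl R) t₁} ∧
      Ideal.span {ĝ (ψ.symm (Ideal.Quotient.mk _ (X 1)))} = Ideal.span {algebraMap R (Cpl R) t₂} := by
  have : IsNoetherianRing C := Algebra.EssFiniteType.isNoetherianRing R C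
  have : IsNoetherianRing (Cpl R) := Groth.Agent.S0543.result R (maximalIdeal R)
  obtain ⟨τ₁, hτ₁⟩ : ∃ x : Cpl R, x = algebraMap R (Cpl R) t₁ := ⟨_, rfl⟩
  obtain ⟨τ₂, hτ₂⟩ : ∃ x : Cpl R, x = algebraMap R (Cpl R) t₂ := ⟨_, rfl⟩
  obtain ⟨δ, hδ⟩ : ∃ x : Cpl R, x = algebraMap R (Cpl R) Δ := ⟨_, rfl⟩
  have hδ0 : δ ≠ 0 := fun h0 => hΔ (AdicCompletion.of_injective (maximalIdeal R) R (by
    rw [map_zero]
    exact hδ.symm.trans h0))
  rw [← hτ₁, ← hτ₂]
  revert ψ
  rw [← hδ]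
  intro ψ hψ
  obtain ⟨e, heC, heX⟩ := exists_eval ![τ₁, τ₂] (by
    intro i; fin_cases i
    · exact hτ₁ ▸ algebraMap_mem ht₁
    · exact hτ₂ ▸ algebraMap_mem ht₂)
  let e' := Ideal.Quotient.lift (Ideal.span {(X 0 * X 1 - MvPowerSeries.C δ : MvPowerSeries (Fin 2) (Cpl R))}) e
    (fun x hx => by
      obtain ⟨c, rfl⟩ := Ideal.mem_span_singleton'.1 hx
      rw [map_mul, map_sub, map_mul, heX, heX, heC]
      simp [hτ₁, hτ₂, hδ, ← map_mul, ht])
  let ĝ₀ : Cpl C →+* Cpl R := e'.comp ψ.toRingHom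
  have hĝ₀C : ∀ r : Cpl R, ĝ₀ (ψ.symm (Ideal.Quotient.mk _ (MvPowerSeries.C r))) = r := fun r => by
    show e' (ψ (ψ.symm _)) = r
    rw [ψ.apply_symm_apply, Ideal.Quotient.lift_mk, heC]
  have : IsLocalHom ĝ₀ := IsLocalHom.of_surjective _ fun r => ⟨_, hĝ₀C r⟩
  let g₀ : C →ₐ[R] Cpl R := { ĝ₀.comp (algebraMap C (Cpl C)) with
    commutes' := fun r => by
      show e' (ψ (algebraMap C (Cpl C) (algebraMap R C r))) = _
      rw [show ψ (algebraMap C (Cpl C) (algebraMap R C r)) = _ from RingHom.congr_fun hψ r]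
      exact (Ideal.Quotient.lift_mk _ _ _).trans (heC _) }
  have : IsLocalHom g₀.toRingHom := RingHom.isLocalHom_comp ĝ₀ (algebraMap C (Cpl C))
  obtain ⟨N₁, hN₁⟩ := exists_close_span_eq hδ0 τ₁
  obtain ⟨N₂, hN₂⟩ := exists_close_span_eq hδ0 τ₂
  obtain ⟨g, hgm, hg⟩ := exists_approx_algHom hR.2.2.1 g₀ (N := N₁ + N₂ + 1) (by omega)
  obtain ⟨ĝ, hĝm, hĝ⟩ := EtNbhdApprox.exists_cplMap g.toRingHom hgm
  have hclose : ∀ x, ĝ x - ĝ₀ x ∈ maximalIdeal (Cpl R) ^ (N₁ + N₂ + 1) := by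
    intro x
    obtain ⟨c, hc⟩ := exists_ev_eq C (N₁ + N₂ + 1) x
    rw [← ev_algebraMap C, ← sub_eq_zero, ← map_sub, ev_eq_zero_iff] at hc
    have h1 := map_pow_le ĝ hĝm _ hc
    have h2 := map_pow_le ĝ₀ (fun a ha => by
      rw [mem_maximalIdeal, mem_nonunits_iff] at ha ⊢
      exact fun hu => ha (IsLocalHom.map_nonunit (f := ĝ₀) a hu)) _ hc
    have h3 : ĝ (algebraMap C (Cpl C) c) - ĝ₀ (algebraMap C (Cpl C) c) ∈
        maximalIdeal (Cpl R) ^ (N₁ + N₂ + 1) := by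
      rw [← RingHom.comp_apply ĝ, hĝ]
      exact hg c
    have h4 := Ideal.add_mem _ (Ideal.sub_mem _ h1 h2) h3
    rw [map_sub, map_sub] at h4
    convert h4 using 1
    ring
  -- on constants
  let ι : Cpl R →+* Cpl C := ψ.symm.toRingHom.comp ((Ideal.Quotient.mk _).comp MvPowerSeries.C)
  have hĝC : ĝ.comp ι = RingHom.id (Cpl R) := by
    have hι : ∀ a ∈ maximalIdeal (Cpl R), ι a ∈ maximalIdeal (Cpl C) := fun a ha => by
      rw [mem_maximalIdeal, mem_nonunits_iff] at ha ⊢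
      exact fun hu => ha (hĝ₀C a ▸ hu.map ĝ₀)
    refine EtNbhdApprox.ringHom_ext_cpl _ _ (fun a ha => hĝm _ (hι a ha)) (fun a ha => ha)
      (RingHom.ext fun r => ?_)
    show ĝ (ψ.symm (Ideal.Quotient.mk _ (MvPowerSeries.C (algebraMap R (Cpl R) r)))) = _
    rw [show Ideal.Quotient.mk _ (MvPowerSeries.C (algebraMap R (Cpl R) r)) =
      ψ (algebraMap C (Cpl C) (algebraMap R C r)) from (RingHom.congr_fun hψ r).symm,
      ψ.symm_apply_apply, ← RingHom.comp_apply ĝ, hĝ]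
    exact congrArg (algebraMap R (Cpl R)) (g.commutes r)
  let u := ψ.symm (Ideal.Quotient.mk _ (X 0))
  let v := ψ.symm (Ideal.Quotient.mk _ (X 1))
  have huv : ĝ u * ĝ v = δ := by
    have h1 : u * v = ι δ := by
      show ψ.symm _ * ψ.symm _ = ψ.symm _
      rw [← map_mul, ← map_mul]
      exact congrArg ψ.symm (Ideal.Quotient.eq.2 (Ideal.mem_span_singleton_self _))
    rw [← map_mul, h1, ← RingHom.comp_apply ĝ, hĝC]
    rfl
  have hu0 : ĝ₀ u = τ₁ := by
    show e' (ψ (ψ.symm _)) = _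
    rw [ψ.apply_symm_apply, Ideal.Quotient.lift_mk, heX]; rfl
  have hv0 : ĝ₀ v = τ₂ := by
    show e' (ψ (ψ.symm _)) = _
    rw [ψ.apply_symm_apply, Ideal.Quotient.lift_mk, heX]; rfl
  refine ⟨g, ĝ, hĝ, hN₁ _ (Dvd.intro _ huv) ?_, hN₂ _ (Dvd.intro_left _ huv) ?_⟩
  · rw [← hu0]
    exact Ideal.pow_le_pow_right (by omega) (hclose u)
  · rw [← hv0]
    exact Ideal.pow_le_pow_right (by omega) (hclose v)

end Groth.Agent.Misc12.NodeRetract
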